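import Groth.Agent.H16Derived.AdeqTF.Inj
import Mathlib.Algebra.Category.ModuleCat.Abelian
import Mathlib.Algebra.Homology.ShortComplex.ModuleCat
import Mathlib.Algebra.Category.ModuleCat.Presheaf.Limits
import Mathlib.Algebra.Category.ModuleCat.Presheaf.Colimits

/-!
# Diagram chases for tangent modules of module-valued functors
-/

set_option autoImplicit false
set_option linter.style.haveILetI false

universe u

open CategoryTheory CategoryTheory.Limits

namespace Groth.Agent.H16Derived.AdeqTFLib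

variable {A : Type u} [CommRing A] (B : Adeq.Alg A)

lemma inl_fst (N : ModuleCat.{u} B) : AdeqTF.inl B N ≫ AdeqTF.fst B N = 𝟙 B := by
  apply CommAlgCat.hom_ext
  exact AlgHom.ext fun x => rfl

lemma map_comp {N N' N'' : ModuleCat.{u} B} (g : N ⟶ N') (g' : N' ⟶ N'') :
    AdeqTF.map B g ≫ AdeqTF.map B g' = AdeqTF.map B (g ≫ g') := by
  apply CommAlgCat.hom_ext
  refine AlgHom.ext fun x => ?_
  refine TrivSqZeroExt.ext ?_ ?_ <;> simp [AdeqTF.map, AdeqTF.fst, AdeqTF.inl, AdeqTF.ext] <;> rfl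

lemma map_zero_eq (N N' : ModuleCat.{u} B) :
    AdeqTF.map B (0 : N ⟶ N') = AdeqTF.fst B N ≫ AdeqTF.inl B N' := by
  apply CommAlgCat.hom_ext
  refine AlgHom.ext fun x => ?_
  refine TrivSqZeroExt.ext ?_ ?_ <;> simp [AdeqTF.map, AdeqTF.fst, AdeqTF.inl, AdeqTF.ext] <;> rfl

lemma map_id (N : ModuleCat.{u} B) : AdeqTF.map B (𝟙 N) = 𝟙 (AdeqTF.ext B N) := by
  apply CommAlgCat.hom_ext
  refine AlgHom.ext fun x => ?_
  refine TrivSqZeroExt.ext ?_ ?_ <;> simp [AdeqTF.map, AdeqTF.fst, AdeqTF.inl, AdeqTF.ext] <;> rfl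

lemma coe_tangentMap {N N' : ModuleCat.{u} B} (F : Adeq.MVF A) (g : N ⟶ N') (x : AdeqTF.tangent B N F) :
    (AdeqTF.tangentMap B F g x).1 = F.map (Adeq.ptHom (AdeqTF.map B g)) x.1 := rfl

variable (F : Adeq.MVF A)

lemma tangentMap_comp {N N' N'' : ModuleCat.{u} B} (g : N ⟶ N') (g' : N' ⟶ N'') (x : AdeqTF.tangent B N F) :
    AdeqTF.tangentMap B F g' (AdeqTF.tangentMap B F g x) = AdeqTF.tangentMap B F (g ≫ g') x := by
  refine Subtype.ext ?_
  rw [coe_tangentMap, coe_tangentMap, coe_tangentMap, ← F.map_comp_apply]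
  exact F.congr_map_apply (congrArg Adeq.ptHom (map_comp B g g')) _

lemma tangentMap_zero {N N' : ModuleCat.{u} B} (x : AdeqTF.tangent B N F) :
    AdeqTF.tangentMap B F (0 : N ⟶ N') x = 0 := by
  refine Subtype.ext ?_
  rw [coe_tangentMap, F.congr_map_apply (congrArg Adeq.ptHom (map_zero_eq B N N'))]
  erw [F.map_comp_apply (Adeq.ptHom (AdeqTF.fst B N)) (Adeq.ptHom (AdeqTF.inl B N'))]
  rw [show F.map (Adeq.ptHom (AdeqTF.fst B N)) x.1 = 0 from x.2]
  exact map_zero _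

lemma tangentMap_id {N : ModuleCat.{u} B} (x : AdeqTF.tangent B N F) :
    AdeqTF.tangentMap B F (𝟙 N) x = x := by
  refine Subtype.ext ?_
  rw [coe_tangentMap, F.congr_map_apply (congrArg Adeq.ptHom (map_id B N))]
  exact (congrArg (fun z => z.hom x.1) (F.map_id _)).trans rfl

/-- The map of tangent modules induced by a morphism of functors. -/
noncomputable def tHom {F G : Adeq.MVF A} (φ : F ⟶ G) (N : ModuleCat.{u} B) :
    AdeqTF.tangent B N F →+ AdeqTF.tangent B N G :=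
  ((φ.app _).hom.toAddMonoidHom.comp (AdeqTF.tangent B N F).subtype).codRestrict _ fun x => by
    show G.map (Adeq.ptHom (AdeqTF.fst B N)) ((φ.app (Adeq.pt (AdeqTF.ext B N))).hom x.1) = 0
    refine (PresheafOfModules.naturality_apply φ (Adeq.ptHom (AdeqTF.fst B N)) x.1).symm.trans ?_
    rw [show F.map (Adeq.ptHom (AdeqTF.fst B N)) x.1 = 0 from x.2]
    exact map_zero _

lemma tHom_nat {F G : Adeq.MVF A} (φ : F ⟶ G) {N N' : ModuleCat.{u} B} (g : N ⟶ N')
    (x : AdeqTF.tangent B N F) :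
    AdeqTF.tangentMap B G g (tHom B φ N x) = tHom B φ N' (AdeqTF.tangentMap B F g x) :=
  Subtype.ext (PresheafOfModules.naturality_apply φ (Adeq.ptHom (AdeqTF.map B g)) x.1).symm

section ShortExact

variable {C : ShortComplex (Adeq.MVF A)} (hC : C.ShortExact)

include hC

lemma shortExact_app (X : (Adeq.Alg A)ᵒᵖᵒᵖ) :
    Function.Injective (C.f.app X).hom ∧ Function.Exact (C.f.app X).hom (C.g.app X).hom ∧
      Function.Surjective (C.g.app X).hom := by
  haveI : (PresheafOfModules.evaluation.{u + 1} (Adeq.ringOf A) X).Additive := { }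
  haveI := PresheafOfModules.evaluation_preservesFiniteLimits.{u + 1} (Adeq.ringOf A) X
  haveI := PresheafOfModules.Finite.evaluation_preservesFiniteColimits.{u + 1} (Adeq.ringOf A) X
  have h := hC.map_of_exact (PresheafOfModules.evaluation.{u + 1} (Adeq.ringOf A) X)
  exact ⟨(ModuleCat.mono_iff_injective _).1 h.mono_f,
    (ShortComplex.ShortExact.moduleCat_exact_iff_function_exact _).1 h.exact,
    (ModuleCat.epi_iff_surjective _).1 h.epi_g⟩

lemma tangent_shortExact (N : ModuleCat.{u} B) :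
    Function.Injective (tHom B C.f N) ∧ (∀ y, tHom B C.g N y = 0 → ∃ x, tHom B C.f N x = y) ∧
      (∀ x, tHom B C.g N (tHom B C.f N x) = 0) ∧ Function.Surjective (tHom B C.g N) := by
  obtain ⟨hi, he, hs⟩ := shortExact_app hC (Adeq.pt (AdeqTF.ext B N))
  obtain ⟨hi', -, -⟩ := shortExact_app hC (Adeq.pt B)
  refine ⟨fun x y h => Subtype.ext (hi (congrArg Subtype.val h)), fun y hy => ?_,
    fun x => Subtype.ext ((he _).2 ⟨_, rfl⟩), fun z => ?_⟩
  · obtain ⟨x, hx⟩ := (he y.1).1 (congrArg Subtype.val hy)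
    refine ⟨⟨x, hi' ?_⟩, Subtype.ext hx⟩
    refine (PresheafOfModules.naturality_apply C.f (Adeq.ptHom (AdeqTF.fst B N)) x).trans ?_
    refine Eq.trans ?_ (map_zero _).symm
    exact (congrArg (C.X₂.map (Adeq.ptHom (AdeqTF.fst B N))).hom hx).trans y.2
  · obtain ⟨y, hy⟩ := hs z.1
    let c : C.X₂.obj (Adeq.pt (AdeqTF.ext B N)) := C.X₂.map (Adeq.ptHom (AdeqTF.inl B N)) (C.X₂.map (Adeq.ptHom (AdeqTF.fst B N)) y)
    refine ⟨⟨y - c, ?_⟩, Subtype.ext ?_⟩
    · show C.X₂.map (Adeq.ptHom (AdeqTF.fst B N)) (y - c) = 0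
      refine (map_sub _ y c).trans (sub_eq_zero.2 ?_)
      refine Eq.trans ?_ (C.X₂.map_comp_apply (Adeq.ptHom (AdeqTF.inl B N)) (Adeq.ptHom (AdeqTF.fst B N)) _)
      have e : Adeq.ptHom (AdeqTF.inl B N) ≫ Adeq.ptHom (AdeqTF.fst B N) = 𝟙 (Adeq.pt B) :=
        congrArg Adeq.ptHom (inl_fst B N)
      refine Eq.trans ?_ (C.X₂.congr_map_apply e.symm _)
      simp [PresheafOfModules.map_id]
      rfl
    · show (C.g.app (Adeq.pt (AdeqTF.ext B N))).hom (y - c) = z.1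
      rw [map_sub, hy, sub_eq_self]
      refine (PresheafOfModules.naturality_apply C.g (Adeq.ptHom (AdeqTF.inl B N)) _).trans ?_
      refine (congrArg (C.X₃.map (Adeq.ptHom (AdeqTF.inl B N))).hom ?_).trans (map_zero _)
      refine (PresheafOfModules.naturality_apply C.g (Adeq.ptHom (AdeqTF.fst B N)) y).trans ?_
      exact (congrArg (C.X₃.map (Adeq.ptHom (AdeqTF.fst B N))).hom hy).trans z.2

end ShortExact

/-- Right exactness of the tangent functors. -/
abbrev RightExact : Prop :=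
  ∀ (B : Adeq.Alg A) (S : ShortComplex (ModuleCat.{u} B)), S.ShortExact →
    Function.Surjective (AdeqTF.tangentMap B F S.g) ∧
      (AdeqTF.tangentMap B F S.g).ker = (AdeqTF.tangentMap B F S.f).range

lemma comp_eq_zero (S : ShortComplex (ModuleCat.{u} B)) (x : AdeqTF.tangent B S.X₁ F) :
    AdeqTF.tangentMap B F S.g (AdeqTF.tangentMap B F S.f x) = 0 := by
  rw [tangentMap_comp, S.zero, tangentMap_zero]

theorem rightExact₃ {C : ShortComplex (Adeq.MVF A)} (hC : C.ShortExact) (h₁ : RightExact C.X₁)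
    (h₂ : RightExact C.X₂) : RightExact C.X₃ := by
  intro B S hS
  obtain ⟨s₁, e₁⟩ := h₁ B S hS
  obtain ⟨s₂, e₂⟩ := h₂ B S hS
  have T := fun N => tangent_shortExact B hC N
  constructor
  · intro z
    obtain ⟨y, hy⟩ := (T S.X₃).2.2.2 z
    obtain ⟨x, hx⟩ := s₂ y
    exact ⟨tHom B C.g S.X₂ x, by rw [tHom_nat, hx, hy]⟩
  · refine le_antisymm (fun z hz => ?_) (by rintro _ ⟨x, rfl⟩; exact comp_eq_zero B _ S x)
    obtain ⟨y, hy⟩ := (T S.X₂).2.2.2 z
    obtain ⟨a, ha⟩ := (T S.X₃).2.1 (AdeqTF.tangentMap B C.X₂ S.g y) (by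
      rw [← tHom_nat, hy]; exact hz)
    obtain ⟨a', rfl⟩ := s₁ a
    have h0 : AdeqTF.tangentMap B C.X₂ S.g (y - tHom B C.f S.X₂ a') = 0 := by
      rw [map_sub, tHom_nat, ha, sub_self]
    obtain ⟨w, hw⟩ := e₂.le h0
    refine ⟨tHom B C.g S.X₁ w, ?_⟩
    rw [tHom_nat, hw, map_sub, (T S.X₂).2.2.1, sub_zero, hy]

theorem rightExact₂ {C : ShortComplex (Adeq.MVF A)} (hC : C.ShortExact) (h₁ : RightExact C.X₁)
    (h₃ : RightExact C.X₃) : RightExact C.X₂ := by
  intro B S hS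
  obtain ⟨s₁, e₁⟩ := h₁ B S hS
  obtain ⟨s₃, e₃⟩ := h₃ B S hS
  have T := fun N => tangent_shortExact B hC N
  constructor
  · intro y
    obtain ⟨z, hz⟩ := s₃ (tHom B C.g S.X₃ y)
    obtain ⟨x, hx⟩ := (T S.X₂).2.2.2 z
    obtain ⟨a, ha⟩ := (T S.X₃).2.1 (y - AdeqTF.tangentMap B C.X₂ S.g x) (by
      rw [map_sub, ← tHom_nat, hx, hz, sub_self])
    obtain ⟨a', rfl⟩ := s₁ a
    refine ⟨x + tHom B C.f S.X₂ a', ?_⟩
    rw [map_add, tHom_nat, ha, add_sub_cancel]
  · refine le_antisymm (fun y hy => ?_) (by rintro _ ⟨x, rfl⟩; exact comp_eq_zero B _ S x)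
    have hy' : AdeqTF.tangentMap B C.X₂ S.g y = 0 := hy
    obtain ⟨w, hw⟩ := e₃.le (show tHom B C.g S.X₂ y ∈ (AdeqTF.tangentMap B C.X₃ S.g).ker by
      show AdeqTF.tangentMap B C.X₃ S.g _ = 0
      rw [tHom_nat, hy', map_zero])
    obtain ⟨w', rfl⟩ := (T S.X₁).2.2.2 w
    obtain ⟨a, ha⟩ := (T S.X₂).2.1 (y - AdeqTF.tangentMap B C.X₂ S.f w') (by
      rw [map_sub, ← tHom_nat, hw, sub_self])
    have hga : AdeqTF.tangentMap B C.X₁ S.g a = 0 := by
      refine (T S.X₃).1 ?_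
      rw [map_zero, ← tHom_nat, ha, map_sub, hy', comp_eq_zero, sub_zero]
    obtain ⟨b, rfl⟩ := e₁.le hga
    refine ⟨w' + tHom B C.f S.X₁ b, ?_⟩
    rw [map_add, tHom_nat, ha, add_sub_cancel]

theorem bijective_coprod (hF : RightExact F) (N₁ N₂ : ModuleCat.{u} B) :
    Function.Bijective ((AdeqTF.tangentMap B F (biprod.inl : N₁ ⟶ N₁ ⊞ N₂)).coprod
      (AdeqTF.tangentMap B F (biprod.inr : N₂ ⟶ N₁ ⊞ N₂))) := by
  let S := ShortComplex.mk (biprod.inl : N₁ ⟶ N₁ ⊞ N₂) biprod.snd biprod.inl_snd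
  have sp : S.Splitting :=
    { r := biprod.fst, s := biprod.inr, f_r := biprod.inl_fst, s_g := biprod.inr_snd, id := biprod.total }
  obtain ⟨-, e⟩ := hF B S sp.shortExact
  refine ⟨(injective_iff_map_eq_zero _).2 ?_, fun z => ?_⟩
  · rintro ⟨a, b⟩ hab
    rw [AddMonoidHom.coprod_apply] at hab
    have ha := congrArg (AdeqTF.tangentMap B F (biprod.fst : N₁ ⊞ N₂ ⟶ N₁)) hab
    have hb := congrArg (AdeqTF.tangentMap B F (biprod.snd : N₁ ⊞ N₂ ⟶ N₂)) hab
    rw [map_add, map_zero, tangentMap_comp, tangentMap_comp] at ha hb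
    simp only [biprod.inl_fst, biprod.inr_fst, biprod.inl_snd, biprod.inr_snd, tangentMap_id,
      tangentMap_zero, add_zero, zero_add] at ha hb
    exact Prod.ext ha hb
  · let b := AdeqTF.tangentMap B F (biprod.snd : N₁ ⊞ N₂ ⟶ N₂) z
    obtain ⟨a, ha⟩ := e.le (show z - AdeqTF.tangentMap B F (biprod.inr : N₂ ⟶ N₁ ⊞ N₂) b ∈ _ by
      show AdeqTF.tangentMap B F (biprod.snd : N₁ ⊞ N₂ ⟶ N₂) _ = 0
      rw [map_sub, tangentMap_comp, biprod.inr_snd, tangentMap_id, sub_self])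
    refine ⟨(a, b), ?_⟩
    rw [AddMonoidHom.coprod_apply]
    exact (congrArg (· + _) ha).trans (sub_add_cancel _ _)

theorem surjective_of_injective (I : Adeq.MVF A) [Injective I] {N N₂ : ModuleCat.{u} B} (g : N ⟶ N₂)
    (hg : Function.Surjective g.hom) : Function.Surjective (AdeqTF.tangentMap B I g) := by
  intro y
  haveI : Epi (AdeqTF.map B g) := ⟨fun {W} a b h => by
    apply CommAlgCat.hom_ext
    refine AlgHom.ext fun x => ?_
    obtain ⟨n, hn⟩ := hg x.snd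
    have hx : (AdeqTF.map B g).hom (TrivSqZeroExt.inl x.fst + TrivSqZeroExt.inr n) = x :=
      TrivSqZeroExt.ext (by simp [AdeqTF.map]) (by simp [AdeqTF.map, hn])
    rw [← hx]
    exact congrArg (fun z => z.hom (TrivSqZeroExt.inl x.fst + TrivSqZeroExt.inr n)) h⟩
  haveI : Epi (Adeq.ptHom (AdeqTF.map B g)) := inferInstance
  obtain ⟨x, hx⟩ := surjective_map_of_injective I (Adeq.ptHom (AdeqTF.map B g)) y.1
  refine ⟨⟨x, ?_⟩, Subtype.ext hx⟩
  show I.map (Adeq.ptHom (AdeqTF.fst B N)) x = 0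
  rw [I.congr_map_apply (congrArg Adeq.ptHom (AdeqTF.map_fst B g).symm)]
  erw [I.map_comp_apply (Adeq.ptHom (AdeqTF.map B g)) (Adeq.ptHom (AdeqTF.fst B N₂))]
  exact (congrArg (I.map (Adeq.ptHom (AdeqTF.fst B N₂))).hom hx).trans y.2

end Groth.Agent.H16Derived.AdeqTFLib
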