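import Groth.Prelude.Def_W4stkadequateTF
import Mathlib.Algebra.Category.ModuleCat.Presheaf.Abelian
import Mathlib.Algebra.Category.Grp.Basic
import Mathlib.CategoryTheory.Preadditive.Injective.Basic
import Mathlib.LinearAlgebra.Finsupp.LinearCombination

/-!
# Injective presheaves of modules turn epimorphisms into surjections
-/

set_option autoImplicit false
set_option linter.style.haveILetI false

universe u

open CategoryTheory CategoryTheory.Limits Opposite

namespace Groth.Agent.H16Derived.AdeqTFLib

variable {C : Type (u + 1)} [Category.{u} C] (R : Cᵒᵖ ⥤ RingCat.{u})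

/-- The underlying abelian presheaf of a free module on a representable functor. -/
noncomputable def repAb (X₀ : Cᵒᵖ) : Cᵒᵖ ⥤ Ab.{u + 1} where
  obj X := AddCommGrpCat.of ((ULift.{u + 1} (X₀ ⟶ X)) →₀ R.obj X)
  map {X Y} f := AddCommGrpCat.ofHom
    (Finsupp.liftAddHom fun s : ULift.{u + 1} (X₀ ⟶ X) =>
      (Finsupp.singleAddHom (ULift.up (s.down ≫ f))).comp (R.map f).hom.toAddMonoidHom)
  map_id X := by
    refine AddCommGrpCat.hom_ext (Finsupp.addHom_ext fun s r => ?_)
    simp
  map_comp {X Y Z} f g := by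
    refine AddCommGrpCat.hom_ext (Finsupp.addHom_ext fun s r => ?_)
    simp

noncomputable instance (X₀ X : Cᵒᵖ) : Module (R.obj X) ((repAb R X₀).obj X) :=
  inferInstanceAs (Module (R.obj X) ((ULift.{u + 1} (X₀ ⟶ X)) →₀ R.obj X))

lemma repAb_map_single (X₀ : Cᵒᵖ) {X Y : Cᵒᵖ} (f : X ⟶ Y) (s : ULift.{u + 1} (X₀ ⟶ X)) (r : R.obj X) :
    (repAb R X₀).map f (Finsupp.single s r : (ULift.{u + 1} (X₀ ⟶ X)) →₀ R.obj X) =
      (Finsupp.single (ULift.up (s.down ≫ f)) (R.map f r) : (ULift.{u + 1} (X₀ ⟶ Y)) →₀ R.obj Y) := by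
  exact Finsupp.liftAddHom_apply_single _ s r

/-- The free module on a representable functor. -/
noncomputable def rep (X₀ : Cᵒᵖ) : PresheafOfModules.{u + 1} R :=
  PresheafOfModules.ofPresheaf (repAb R X₀) (fun X Y f r m => by
    change ((repAb R X₀).map f).hom (r • m) = R.map f r • ((repAb R X₀).map f).hom m
    induction (m : (ULift.{u + 1} (X₀ ⟶ X)) →₀ R.obj X) using Finsupp.induction_linear with
    | zero =>
      show ((repAb R X₀).map f).hom (r • (0 : (repAb R X₀).obj X)) =
        R.map f r • ((repAb R X₀).map f).hom (0 : (repAb R X₀).obj X)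
      rw [smul_zero, map_zero, smul_zero]
    | add a b ha hb =>
      show ((repAb R X₀).map f).hom (r • (a + b)) = R.map f r • ((repAb R X₀).map f).hom (a + b)
      erw [smul_add, map_add, map_add, smul_add, ha, hb]
    | single s t =>
      show ((repAb R X₀).map f).hom (r • (Finsupp.single s t)) =
        R.map f r • ((repAb R X₀).map f).hom (Finsupp.single s t)
      erw [Finsupp.smul_single, repAb_map_single, repAb_map_single]
      erw [Finsupp.smul_single]
      simp)

variable {R}

/-- The image of an element under a restriction map. -/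
noncomputable abbrev elMap (M : PresheafOfModules.{u + 1} R) {X Y : Cᵒᵖ} (f : X ⟶ Y) (m : M.obj X) : M.obj Y := (M.map f).hom m

/-- The morphism from the free module on a representable functor given by an element. -/
noncomputable def repHom (M : PresheafOfModules.{u + 1} R) (X₀ : Cᵒᵖ) (m : M.obj X₀) : rep R X₀ ⟶ M where
  app X := ModuleCat.ofHom
    (Finsupp.linearCombination (R.obj X) fun s : ULift.{u + 1} (X₀ ⟶ X) => elMap M s.down m)
  naturality {X Y} f := by
    refine ModuleCat.hom_ext (LinearMap.ext fun x => ?_)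
    induction (x : (ULift.{u + 1} (X₀ ⟶ X)) →₀ R.obj X) using Finsupp.induction_linear with
    | zero => exact (map_zero _).trans (map_zero _).symm
    | add a b ha hb => exact (map_add _ a b).trans ((congrArg₂ _ ha hb).trans (map_add _ a b).symm)
    | single s t =>
      show Finsupp.linearCombination (R.obj Y) (fun s : ULift.{u + 1} (X₀ ⟶ Y) => elMap M s.down m)
          ((repAb R X₀).map f (Finsupp.single s t : (ULift.{u + 1} (X₀ ⟶ X)) →₀ R.obj X)) =
        elMap M f (Finsupp.linearCombination (R.obj X) (fun s : ULift.{u + 1} (X₀ ⟶ X) => elMap M s.down m) (Finsupp.single s t))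
      rw [repAb_map_single]
      erw [Finsupp.linearCombination_single, Finsupp.linearCombination_single]
      show _ = (M.map f).hom (t • elMap M s.down m)
      erw [PresheafOfModules.map_smul]
      exact congrArg (R.map f t • ·) (PresheafOfModules.map_comp_apply M s.down f m)

/-- Precomposition. -/
noncomputable def repMap {X₀ X₁ : Cᵒᵖ} (g : X₀ ⟶ X₁) : rep R X₁ ⟶ rep R X₀ where
  app X := ModuleCat.ofHom
    (Finsupp.lmapDomain (R.obj X) (R.obj X) fun s : ULift.{u + 1} (X₁ ⟶ X) => ULift.up (g ≫ s.down))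
  naturality {X Y} f := by
    refine ModuleCat.hom_ext (LinearMap.ext fun x => ?_)
    induction (x : (ULift.{u + 1} (X₁ ⟶ X)) →₀ R.obj X) using Finsupp.induction_linear with
    | zero => exact (map_zero _).trans (map_zero _).symm
    | add a b ha hb => exact (map_add _ a b).trans ((congrArg₂ _ ha hb).trans (map_add _ a b).symm)
    | single s t =>
      show Finsupp.lmapDomain (R.obj Y) (R.obj Y) (fun s => ULift.up (g ≫ s.down))
          ((repAb R X₁).map f (Finsupp.single s t : (ULift.{u + 1} (X₁ ⟶ X)) →₀ R.obj X)) =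
        (repAb R X₀).map f (Finsupp.lmapDomain (R.obj X) (R.obj X) (fun s => ULift.up (g ≫ s.down)) (Finsupp.single s t) : (ULift.{u + 1} (X₀ ⟶ X)) →₀ R.obj X)
      rw [repAb_map_single, Finsupp.lmapDomain_apply, Finsupp.lmapDomain_apply, Finsupp.mapDomain_single,
        Finsupp.mapDomain_single, repAb_map_single]
      simp

theorem surjective_map_of_injective (I : PresheafOfModules.{u + 1} R) [Injective I] {X₀ X₁ : Cᵒᵖ}
    (g : X₀ ⟶ X₁) [Epi g] : Function.Surjective (I.map g).hom := by
  intro y
  change I.obj X₁ at y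
  haveI : Mono (repMap (R := R) g) := by
    haveI : ∀ X, Mono ((PresheafOfModules.evaluation R X).map (repMap (R := R) g)) := fun X =>
      (ModuleCat.mono_iff_injective _).2 (Finsupp.mapDomain_injective fun s t h => by
        have h' := congrArg ULift.down h
        simp only [cancel_epi] at h'
        exact ULift.ext _ _ h')
    refine (PresheafOfModules.toPresheaf R).mono_of_mono_map ?_
    haveI : ∀ X, Mono (((PresheafOfModules.toPresheaf R).map (repMap (R := R) g)).app X) := fun X =>
      inferInstanceAs (Mono ((forget₂ (ModuleCat (R.obj X)) Ab).map ((PresheafOfModules.evaluation R X).map (repMap (R := R) g))))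
    exact NatTrans.mono_of_mono_app _
  let ψ := Injective.factorThru (repHom I X₁ y) (repMap g)
  have h : repMap g ≫ ψ = repHom I X₁ y := Injective.comp_factorThru _ _
  refine ⟨(ψ.app X₀).hom (Finsupp.single (ULift.up (𝟙 X₀)) 1 : (ULift.{u + 1} (X₀ ⟶ X₀)) →₀ R.obj X₀), ?_⟩
  have hn := PresheafOfModules.naturality_apply ψ g (Finsupp.single (ULift.up (𝟙 X₀)) 1 : (ULift.{u + 1} (X₀ ⟶ X₀)) →₀ R.obj X₀)
  refine Eq.trans hn.symm ?_
  let e₁ : (rep R X₁).obj X₁ := (Finsupp.single (ULift.up (𝟙 X₁)) 1 : (ULift.{u + 1} (X₁ ⟶ X₁)) →₀ R.obj X₁)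
  have hy := congrArg (fun z : rep R X₁ ⟶ I => (z.app X₁).hom e₁) h
  refine Eq.trans ?_ (hy.trans ?_)
  · show (ψ.app X₁).hom _ = (ψ.app X₁).hom _
    refine congrArg (ψ.app X₁).hom ?_
    show (repAb R X₀).map g (Finsupp.single (ULift.up (𝟙 X₀)) 1 : (ULift.{u + 1} (X₀ ⟶ X₀)) →₀ R.obj X₀) =
      Finsupp.lmapDomain (R.obj X₁) (R.obj X₁) (fun s => ULift.up (g ≫ s.down)) (Finsupp.single (ULift.up (𝟙 X₁)) 1)
    refine (repAb_map_single R X₀ g _ _).trans ?_
    rw [Finsupp.lmapDomain_apply, Finsupp.mapDomain_single]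
    simp
  · show Finsupp.linearCombination (R.obj X₁) (fun s => elMap I s.down y) (Finsupp.single (ULift.up (𝟙 X₁)) 1) = y
    simp [elMap, PresheafOfModules.map_id]

end Groth.Agent.H16Derived.AdeqTFLib
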